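import Mathlib.RingTheory.AdicCompletion.AsTensorProduct
import Mathlib.RingTheory.AdicCompletion.LocalRing
import Mathlib.RingTheory.TensorProduct.Quotient
import Mathlib.RingTheory.Localization.BaseChange

/-!
# Rings glued from an element and its completion

For `C` an algebra with the same reductions modulo powers of `r`, sections over `C ⊗ C` are
determined on `D(r)` and on the diagonal.
-/

universe u

open TensorProduct

namespace Groth.Agent.BLTorsH7

variable {R : Type u} [CommRing R] (r : R) (C : Type u) [CommRing C] [Algebra R C]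

/-- The multiplication map. -/
noncomputable abbrev mu : C ⊗[R] C →ₐ[R] C := Algebra.TensorProduct.lmul' R

variable {C}

variable (hC : ∀ (c : C) (n : ℕ), ∃ a : R, algebraMap R C r ^ n ∣ c - algebraMap R C a)

include hC in
theorem exists_scalar (n : ℕ) (b : C ⊗[R] C) :
    ∃ a : R, algebraMap R (C ⊗[R] C) r ^ n ∣ b - algebraMap R (C ⊗[R] C) a := by
  induction b using TensorProduct.induction_on with
  | zero => exact ⟨0, by simp⟩
  | tmul c d =>
    obtain ⟨a, e, he⟩ := hC c n
    obtain ⟨a', e', he'⟩ := hC d n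
    rw [sub_eq_iff_eq_add] at he he'
    let L : C →ₐ[R] C ⊗[R] C := Algebra.TensorProduct.includeLeft
    let L' : C →ₐ[R] C ⊗[R] C := Algebra.TensorProduct.includeRight
    refine ⟨a * a', L e * L' d + algebraMap R (C ⊗[R] C) a * L' e', ?_⟩
    have h : c ⊗ₜ[R] d = L c * L' d := by simp [L, L', Algebra.TensorProduct.tmul_mul_tmul]
    rw [h, he, map_add, map_mul, map_pow, AlgHom.commutes, AlgHom.commutes, he', map_add, map_mul, map_pow,
      AlgHom.commutes, AlgHom.commutes, map_mul]
    ring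
  | add x y hx hy =>
    obtain ⟨a, ha⟩ := hx
    obtain ⟨a', ha'⟩ := hy
    exact ⟨a + a', by rw [map_add, add_sub_add_comm]; exact dvd_add ha ha'⟩

include hC in
/-- Divisibility by `r ^ n` is detected on the diagonal. -/
theorem dvd_of_dvd_mu (n : ℕ) (b : C ⊗[R] C) (h : algebraMap R C r ^ n ∣ mu C b) :
    algebraMap R (C ⊗[R] C) r ^ n ∣ b := by
  obtain ⟨a, ha⟩ := exists_scalar r hC n b
  have h1 : algebraMap R C r ^ n ∣ mu C b - algebraMap R C a := by
    have := map_dvd (mu C) ha
    rwa [map_pow, map_sub, AlgHom.commutes, AlgHom.commutes] at this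
  have h2 := map_dvd (Algebra.TensorProduct.includeLeft : C →ₐ[R] C ⊗[R] C) (dvd_sub h h1)
  rw [sub_sub_cancel, map_pow, AlgHom.commutes, AlgHom.commutes] at h2
  simpa using dvd_add ha h2

include hC in
/-- A function on `D(r)` whose restriction to the diagonal extends, extends. -/
theorem mem_range_of_mu (hreg : IsSMulRegular C r)
    {Br : Type u} [CommRing Br] [Algebra (C ⊗[R] C) Br]
    [IsLocalization.Away (algebraMap R (C ⊗[R] C) r) Br]
    {Cr : Type u} [CommRing Cr] [Algebra C Cr] [IsLocalization.Away (algebraMap R C r) Cr]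
    (μr : Br →+* Cr) (hμ : ∀ b, μr (algebraMap (C ⊗[R] C) Br b) = algebraMap C Cr (mu C b))
    (z : Br) (c : C) (hz : μr z = algebraMap C Cr c) : z ∈ (algebraMap (C ⊗[R] C) Br).range := by
  obtain ⟨b, ⟨_, n, rfl⟩, rfl⟩ := IsLocalization.exists_mk'_eq (Submonoid.powers (algebraMap R (C ⊗[R] C) r)) z
  have h1 := congrArg μr (IsLocalization.mk'_spec Br b
    (⟨algebraMap R (C ⊗[R] C) r ^ n, n, rfl⟩ : Submonoid.powers (algebraMap R (C ⊗[R] C) r)))
  rw [map_mul, hz, hμ, hμ, ← map_mul, map_pow, AlgHom.commutes] at h1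
  have h2 : c * algebraMap R C r ^ n = mu C b := by
    obtain ⟨⟨_, m, rfl⟩, hm⟩ := (IsLocalization.eq_iff_exists (Submonoid.powers (algebraMap R C r)) Cr).1 h1
    refine IsSMulRegular.pow m hreg ?_
    show r ^ m • (c * algebraMap R C r ^ n) = r ^ m • mu C b
    rw [Algebra.smul_def, Algebra.smul_def, map_pow]
    exact hm
  obtain ⟨b', rfl⟩ := dvd_of_dvd_mu r hC n b ⟨c, by rw [← h2, mul_comm]⟩
  exact ⟨b', IsLocalization.eq_mk'_iff_mul_eq.2 (by rw [← map_mul, mul_comm])⟩

theorem exists_scalar_completion [IsNoetherianRing R] (c : AdicCompletion (Ideal.span {r}) R) (n : ℕ) :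
    ∃ a : R, algebraMap R (AdicCompletion (Ideal.span {r}) R) r ^ n ∣
      c - algebraMap R (AdicCompletion (Ideal.span {r}) R) a := by
  obtain ⟨a, ha⟩ := Submodule.Quotient.mk_surjective _ (AdicCompletion.eval (Ideal.span {r}) R n c)
  refine ⟨a, ?_⟩
  have h : c - algebraMap R (AdicCompletion (Ideal.span {r}) R) a ∈
      LinearMap.ker (AdicCompletion.eval (Ideal.span {r}) R n) := by
    rw [LinearMap.mem_ker, map_sub, sub_eq_zero, ← ha]
    rfl
  rw [← AdicCompletion.pow_smul_top_eq_ker_eval (Ideal.span {r}).fg_of_isNoetherianRing,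
    Ideal.span_singleton_pow, Submodule.ideal_span_singleton_smul] at h
  obtain ⟨z, -, hz⟩ := h
  refine ⟨z, ?_⟩
  rw [← map_pow, ← Algebra.smul_def]
  exact hz.symm

end Groth.Agent.BLTorsH7
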