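import Groth.Agent.Lib.BLTorsH7.Pts
import Groth.Agent.Lib.BLTorsH7.Ring
import Groth.Agent.Lib.PushTors19.Torsor

/-!
# The cocycle of a point over the punctured completion
-/

set_option autoImplicit false
set_option linter.style.haveILetI false
set_option backward.isDefEq.respectTransparency false
set_option backward.isDefEq.respectTransparency.types false

universe u

open CategoryTheory CategoryTheory.Limits MonoidalCategory CartesianMonoidalCategory MonObj AlgebraicGeometry
open scoped TensorProduct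

noncomputable section

namespace Groth.Agent.BLTorsH7

variable {R : Type u} [CommRing R] (r : R) (C : Type u) [CommRing C] [Algebra R C]

/-- The two members of the covering of `Spec R`. -/
def member : ULift.{u} Bool → Over (Spec (CommRingCat.of R))
  | ⟨true⟩ => sp (Localization.Away r)
  | ⟨false⟩ => sp C

/-- The schemes of the covering. -/
abbrev mV (i : ULift.{u} Bool) : Scheme.{u} := (member r C i).left

/-- The morphisms of the covering. -/
abbrev mf (i : ULift.{u} Bool) : mV r C i ⟶ Spec (CommRingCat.of R) := (member r C i).hom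

theorem over_mf (i : ULift.{u} Bool) : Over.mk (mf r C i) = member r C i := rfl

/-- The functions on `D(r)` inside the second member. -/
abbrev Cr : Type u := Localization.Away (algebraMap R C r)

/-- The map from functions on `D(r)`. -/
def locMap : Localization.Away r →ₐ[R] Cr r C :=
  IsLocalization.liftAlgHom (M := Submonoid.powers r) (f := Algebra.ofId R (Cr r C)) (by
    rintro ⟨_, n, rfl⟩
    rw [Algebra.ofId_apply, map_pow, IsScalarTower.algebraMap_apply R C (Cr r C)]
    exact (IsLocalization.Away.algebraMap_isUnit (S := Cr r C) (algebraMap R C r)).pow n)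

variable {G : Over (Spec (CommRingCat.of R))}

theorem exists_pairing (gO : sp (R := R) (Cr r C) ⟶ G) :
    ∃ gP : sp (R := R) C ⊗ sp (Localization.Away r) ⟶ G, ∀ (x : sp (R := R) (Cr r C) ⟶ sp C) (d : sp (R := R) (Cr r C) ⟶ sp (Localization.Away r)),
      x = spHom (IsScalarTower.toAlgHom R C (Cr r C)) → lift x d ≫ gP = gO := by
  letI : Algebra (Localization.Away r) (Cr r C) := (locMap r C).toRingHom.toAlgebra
  haveI : IsScalarTower R (Localization.Away r) (Cr r C) := .of_algHom (locMap r C)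
  haveI : IsLocalization (Algebra.algebraMapSubmonoid C (Submonoid.powers r)) (Cr r C) := by
    rw [Algebra.algebraMapSubmonoid, Submonoid.map_powers]; infer_instance
  haveI : Algebra.IsPushout R C (Localization.Away r) (Cr r C) :=
    Algebra.isPushout_of_isLocalization (Submonoid.powers r) _ _ _
  obtain ⟨z, hz, -⟩ := existsUnique_pair (P := Cr r C) (fst (sp (R := R) C) (sp (Localization.Away r))) (snd _ _)
  refine ⟨z ≫ gO, fun x d hx => ?_⟩
  subst hx
  rw [← Category.assoc]
  have : lift (spHom (IsScalarTower.toAlgHom R C (Cr r C))) d ≫ z = 𝟙 _ := by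
    haveI := subsingleton_toLoc r (sp (R := R) (Cr r C))
    refine (existsUnique_pair (P := Cr r C) (spHom (IsScalarTower.toAlgHom R C (Cr r C))) d).unique
      ⟨?_, Subsingleton.elim _ _⟩ ⟨Category.id_comp _, Subsingleton.elim _ _⟩
    rw [Category.assoc, hz.1, lift_fst]
  rw [this, Category.id_comp]

variable [GrpObj G] {gP : sp (R := R) C ⊗ sp (Localization.Away r) ⟶ G}

/-- The coordinates over `D(r)`. -/
def ee (gP : sp (R := R) C ⊗ sp (Localization.Away r) ⟶ G) : ∀ (i : ULift.{u} Bool) {T : Over (Spec (CommRingCat.of R))},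
    (T ⟶ member r C i) → (T ⟶ sp (Localization.Away r)) → (T ⟶ G)
  | ⟨true⟩, _, _, _ => 1
  | ⟨false⟩, _, x, d => lift x d ≫ gP

theorem ee_comp (i : ULift.{u} Bool) {T T' : Over (Spec (CommRingCat.of R))} (a : T' ⟶ T) (x : T ⟶ member r C i)
    (d : T ⟶ sp (Localization.Away r)) : a ≫ ee r C gP i x d = ee r C gP i (a ≫ x) (a ≫ d) := by
  obtain ⟨i⟩ := i
  cases i
  · exact comp_lift_assoc _ _ _ _
  · exact MonObj.comp_one _

theorem ee_congr (i : ULift.{u} Bool) {T : Over (Spec (CommRingCat.of R))} (x : T ⟶ member r C i)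
    (d d' : T ⟶ sp (Localization.Away r)) : ee r C gP i x d = ee r C gP i x d' := by
  haveI := subsingleton_toLoc r T
  rw [Subsingleton.elim d d']

variable (hr : r ∈ nonZeroDivisors R) [Module.Flat R C]
  (hC : ∀ (c : C) (n : ℕ), ∃ a : R, algebraMap R C r ^ n ∣ c - algebraMap R C a) [IsAffineHom G.hom]

include hr hC in
/-- Extension of the transition element over the square of the second member. -/
theorem exists_w_self :
    ∃ w : sp (R := R) C ⊗ sp C ⟶ G, fst (sp (R := R) C ⊗ sp C) (sp (Localization.Away r)) ≫ w =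
      ee r C gP ⟨false⟩ (fst _ _ ≫ fst _ _) (snd _ _) * (ee r C gP ⟨false⟩ (fst _ _ ≫ snd _ _) (snd _ _))⁻¹ := by
  let B := C ⊗[R] C
  let Br := Localization.Away (algebraMap R B r)
  let ρ : sp (R := R) Br ⟶ sp B := spHom (IsScalarTower.toAlgHom R B Br)
  let p₁ : sp (R := R) B ⟶ sp C := spHom Algebra.TensorProduct.includeLeft
  let p₂ : sp (R := R) B ⟶ sp C := spHom Algebra.TensorProduct.includeRight
  let lB : Localization.Away r →ₐ[R] Br :=
    IsLocalization.liftAlgHom (M := Submonoid.powers r) (f := Algebra.ofId R Br) (by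
      rintro ⟨_, n, rfl⟩
      rw [Algebra.ofId_apply, map_pow, IsScalarTower.algebraMap_apply R B Br]
      exact (IsLocalization.Away.algebraMap_isUnit (S := Br) (algebraMap R B r)).pow n)
  let d : sp (R := R) Br ⟶ sp (Localization.Away r) := spHom lB
  let q : sp (R := R) Br ⟶ G := ee r C gP ⟨false⟩ (ρ ≫ p₁) d * (ee r C gP ⟨false⟩ (ρ ≫ p₂) d)⁻¹
  let μr : Br →ₐ[R] Cr r C := IsLocalization.liftAlgHom (M := Submonoid.powers (algebraMap R B r))
    (f := (IsScalarTower.toAlgHom R C (Cr r C)).comp (mu C)) (by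
      rintro ⟨_, n, rfl⟩
      rw [map_pow, AlgHom.commutes, IsScalarTower.algebraMap_apply R C (Cr r C)]
      exact (IsLocalization.Away.algebraMap_isUnit (S := Cr r C) (algebraMap R C r)).pow n)
  have hμ : ∀ b, μr (algebraMap B Br b) = algebraMap C (Cr r C) (mu C b) := fun b => IsLocalization.lift_eq _ b
  have hqμ : spHom μr ≫ q = 1 := by
    have e1 : spHom μr ≫ ρ ≫ p₁ = spHom μr ≫ ρ ≫ p₂ := by
      simp only [ρ, p₁, p₂, spHom_comp]
      refine congrArg spHom (AlgHom.ext fun c => ?_)
      show μr (algebraMap B Br (c ⊗ₜ 1)) = μr (algebraMap B Br (1 ⊗ₜ c))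
      rw [hμ, hμ]; simp
    rw [MonObj.comp_mul, GrpObj.comp_inv, ee_comp, ee_comp, e1, mul_inv_cancel]
  haveI : IsAffine G.left := isAffine_of_isAffineHom G.hom
  obtain ⟨φ, hφ⟩ : ∃ φ, Spec.map φ = q.left ≫ G.left.isoSpec.hom := ⟨_, Spec.map_preimage _⟩
  obtain ⟨ε, hε⟩ : ∃ ε, Spec.map ε = (1 : sp (R := R) C ⟶ G).left ≫ G.left.isoSpec.hom := ⟨_, Spec.map_preimage _⟩
  have hφε : φ ≫ CommRingCat.ofHom μr.toRingHom = ε ≫ CommRingCat.ofHom (algebraMap C (Cr r C)) := by
    apply Spec.map_injective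
    rw [Spec.map_comp, Spec.map_comp, hφ, hε]
    have e1 : (spHom μr).left ≫ q.left = (spHom (IsScalarTower.toAlgHom R C (Cr r C))).left ≫ (1 : sp (R := R) C ⟶ G).left := by
      rw [← Over.comp_left, ← Over.comp_left, hqμ, MonObj.comp_one]
    exact (Category.assoc _ _ _).symm.trans ((congrArg (· ≫ G.left.isoSpec.hom) e1).trans (Category.assoc _ _ _))
  have hregC : IsSMulRegular C r := Module.Flat.isSMulRegular_of_nonZeroDivisors hr
  have hrange : ∀ a, φ a ∈ (algebraMap B Br).range := fun a =>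
    mem_range_of_mu r hC hregC μr.toRingHom hμ _ (ε a) (congr($hφε a))
  have hinj : Function.Injective (algebraMap B Br) := by
    refine IsLocalization.injective Br (M := Submonoid.powers (algebraMap R B r)) (Submonoid.powers_le.2 ?_)
    have hreg : IsSMulRegular B r := Module.Flat.isSMulRegular_of_nonZeroDivisors hr
    exact mem_nonZeroDivisors_iff_right.2 fun x hx => hreg (show r • x = r • (0 : B) by
      rw [Algebra.smul_def, smul_zero, mul_comm, hx])
  choose f hf using hrange
  let φ₀ : CommRingCat.of Γ(G.left, ⊤) ⟶ CommRingCat.of B := CommRingCat.ofHom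
    { toFun := f
      map_one' := hinj ((hf 1).trans ((map_one φ.hom).trans (map_one _).symm))
      map_zero' := hinj ((hf 0).trans ((map_zero φ.hom).trans (map_zero _).symm))
      map_add' := fun a b => hinj ((hf _).trans ((map_add φ.hom a b).trans
        ((congrArg₂ (· + ·) (hf a).symm (hf b).symm).trans (map_add _ _ _).symm)))
      map_mul' := fun a b => hinj ((hf _).trans ((map_mul φ.hom a b).trans
        ((congrArg₂ (· * ·) (hf a).symm (hf b).symm).trans (map_mul _ _ _).symm))) }
  have hφ₀ : φ₀ ≫ CommRingCat.ofHom (algebraMap B Br) = φ := CommRingCat.hom_ext (RingHom.ext hf)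
  let w₀ : Spec (CommRingCat.of B) ⟶ G.left := Spec.map φ₀ ≫ G.left.isoSpec.inv
  have hw₀ : Spec.map (CommRingCat.ofHom (algebraMap B Br)) ≫ w₀ = q.left := by
    rw [← Category.assoc, ← Spec.map_comp, hφ₀, hφ, Category.assoc, Iso.hom_inv_id, Category.comp_id]
  have hwG : w₀ ≫ G.hom = (sp (R := R) B).hom := by
    obtain ⟨β, hβ⟩ : ∃ β, Spec.map β = w₀ ≫ G.hom := ⟨_, Spec.map_preimage _⟩
    have h1 : β ≫ CommRingCat.ofHom (algebraMap B Br) =
        CommRingCat.ofHom (algebraMap R B) ≫ CommRingCat.ofHom (algebraMap B Br) := by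
      apply Spec.map_injective
      rw [Spec.map_comp, Spec.map_comp, hβ, reassoc_of% hw₀, Over.w q]
      exact (Over.w ρ).symm
    show w₀ ≫ G.hom = Spec.map (CommRingCat.ofHom (algebraMap R B))
    rw [← hβ]
    exact congrArg Spec.map (CommRingCat.hom_ext (RingHom.ext fun x => hinj (congr($h1 x))))
  let w : sp (R := R) B ⟶ G := Over.homMk w₀ hwG
  have hw : ρ ≫ w = q := Over.OverMorphism.ext hw₀
  obtain ⟨k, ⟨hk₁, hk₂⟩, -⟩ := existsUnique_pair_tensor (fst (sp (R := R) C) (sp C)) (snd (sp (R := R) C) (sp C))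
  letI : Algebra (Localization.Away r) Br := lB.toRingHom.toAlgebra
  haveI : IsScalarTower R (Localization.Away r) Br := .of_algHom lB
  haveI : IsLocalization (Algebra.algebraMapSubmonoid B (Submonoid.powers r)) Br := by
    rw [Algebra.algebraMapSubmonoid, Submonoid.map_powers]; infer_instance
  haveI : Algebra.IsPushout R B (Localization.Away r) Br :=
    Algebra.isPushout_of_isLocalization (Submonoid.powers r) _ _ _
  obtain ⟨v, ⟨hv₁, hv₂⟩, -⟩ := existsUnique_pair (P := Br)
    (fst (sp (R := R) C ⊗ sp C) (sp (Localization.Away r)) ≫ k) (snd _ _)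
  refine ⟨k ≫ w, ?_⟩
  rw [← Category.assoc, ← hv₁, Category.assoc]
  change v ≫ ρ ≫ w = _
  rw [hw, MonObj.comp_mul, GrpObj.comp_inv, ee_comp, ee_comp]
  have hk₁' : k ≫ p₁ = fst _ _ := hk₁
  have hk₂' : k ≫ p₂ = snd _ _ := hk₂
  rw [show v ≫ ρ ≫ p₁ = fst (sp (R := R) C ⊗ sp C) (sp (Localization.Away r)) ≫ fst _ _ by
      rw [← Category.assoc]; exact (congrArg (· ≫ p₁) hv₁).trans (by rw [Category.assoc, hk₁']),
    show v ≫ ρ ≫ p₂ = fst (sp (R := R) C ⊗ sp C) (sp (Localization.Away r)) ≫ snd _ _ by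
      rw [← Category.assoc]; exact (congrArg (· ≫ p₂) hv₁).trans (by rw [Category.assoc, hk₂'])]
  haveI := subsingleton_toLoc r ((sp (R := R) C ⊗ sp C) ⊗ sp (Localization.Away r))
  rw [Subsingleton.elim (v ≫ d) (snd _ _)]
  rfl

include hr hC in
theorem exists_w (i j : ULift.{u} Bool) :
    ∃ w : member r C i ⊗ member r C j ⟶ G, fst (member r C i ⊗ member r C j) (sp (Localization.Away r)) ≫ w =
      ee r C gP i (fst _ _ ≫ fst _ _) (snd _ _) * (ee r C gP j (fst _ _ ≫ snd _ _) (snd _ _))⁻¹ := by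
  obtain ⟨i⟩ := i
  obtain ⟨j⟩ := j
  cases i <;> cases j
  · exact exists_w_self r C hr hC
  · refine ⟨ee r C gP ⟨false⟩ (fst _ _) (snd _ _), ?_⟩
    refine (ee_comp r C _ _ _ _).trans ((ee_congr r C _ _ _ (snd _ _)).trans ?_)
    exact ((congrArg (_ * ·) inv_one).trans (_root_.mul_one _)).symm
  · refine ⟨(ee r C gP ⟨false⟩ (snd _ _) (fst _ _))⁻¹, ?_⟩
    refine (GrpObj.comp_inv _ _).trans (Eq.trans ?_ (_root_.one_mul _).symm)
    exact congrArg _ ((ee_comp r C _ _ _ _).trans (ee_congr r C _ _ _ _))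
  · exact ⟨1, (MonObj.comp_one _).trans ((congrArg ((1 : _ ⟶ G) * ·) inv_one).trans (_root_.mul_one _)).symm⟩

include hr hC in
/-- The cocycle. -/
theorem exists_cocycle : ∃ Z : PushTors19.Cocycle (mf r C) G,
    ∀ {T : Over (Spec (CommRingCat.of R))} {i j : ULift.{u} Bool} (x : T ⟶ member r C i) (y : T ⟶ member r C j)
      (d : T ⟶ sp (Localization.Away r)), Z.c x y = ee r C gP i x d * (ee r C gP j y d)⁻¹ := by
  choose w hw using exists_w r C hr hC (gP := gP)
  let c : ∀ {T : Over (Spec (CommRingCat.of R))} {i j : ULift.{u} Bool}, (T ⟶ member r C i) → (T ⟶ member r C j) → (T ⟶ G) :=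
    fun {T i j} x y => lift x y ≫ w i j
  have key : ∀ {T : Over (Spec (CommRingCat.of R))} {i j : ULift.{u} Bool} (x : T ⟶ member r C i)
      (y : T ⟶ member r C j) (d : T ⟶ sp (Localization.Away r)), c x y = ee r C gP i x d * (ee r C gP j y d)⁻¹ := by
    intro T i j x y d
    have := congrArg (fun q => lift (lift x y) d ≫ q) (hw i j)
    simpa only [lift_fst_assoc, lift_snd, lift_fst, MonObj.comp_mul, GrpObj.comp_inv, ee_comp] using this
  have nat : ∀ {T T' : Over (Spec (CommRingCat.of R))} {i j : ULift.{u} Bool} (a : T' ⟶ T) (x : T ⟶ member r C i)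
      (y : T ⟶ member r C j), a ≫ c x y = c (a ≫ x) (a ≫ y) := fun a x y => comp_lift_assoc _ _ _ _
  haveI : ∀ i, IsAffineHom (member r C i).hom := fun ⟨i⟩ => by cases i <;> exact isAffineHom_sp _
  haveI : ∀ i, Flat (member r C i).hom := fun ⟨i⟩ => by cases i <;> exact flat_sp _
  refine ⟨⟨@c, @nat, fun {T i} x => ?_, fun {T i j l} x y z => ?_⟩, @key⟩
  · have h : c (𝟙 (member r C i)) (𝟙 _) = 1 := eq_of_fst_comp_eq hr _ _ (by
      rw [nat, Category.comp_id, key _ _ (snd _ _), MonObj.comp_one, mul_inv_cancel])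
    exact (congrArg₂ c (Category.comp_id x).symm (Category.comp_id x).symm).trans ((nat x _ _).symm.trans
      ((congrArg (x ≫ ·) h).trans (MonObj.comp_one x)))
  · have h : c (fst (member r C i ⊗ member r C j) (member r C l) ≫ fst _ _) (fst _ _ ≫ snd _ _) *
        c (fst (member r C i ⊗ member r C j) (member r C l) ≫ snd _ _) (snd _ _) =
        c (fst (member r C i ⊗ member r C j) (member r C l) ≫ fst _ _) (snd _ _) := eq_of_fst_comp_eq hr _ _ (by
      rw [MonObj.comp_mul, nat, nat, nat, key _ _ (snd _ _), key _ _ (snd _ _), key _ _ (snd _ _), _root_.mul_assoc,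
        inv_mul_cancel_left])
    let L : T ⟶ (member r C i ⊗ member r C j) ⊗ member r C l := lift (lift x y) z
    have e1 : L ≫ fst _ _ ≫ fst _ _ = x := (lift_fst_assoc _ _ _).trans (lift_fst _ _)
    have e2 : L ≫ fst _ _ ≫ snd _ _ = y := (lift_fst_assoc _ _ _).trans (lift_snd _ _)
    have e3 : L ≫ snd _ _ = z := lift_snd _ _
    have := congrArg (L ≫ ·) h
    simp only [MonObj.comp_mul, nat] at this
    rw [e1, e2, e3] at this
    exact this

end Groth.Agent.BLTorsH7
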