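import Groth.Agent.Lib.BLTorsH7.Cocycle
import Groth.Agent.Lib.TorsorSch25.Transfer
import Mathlib.AlgebraicGeometry.Morphisms.LocalFlatDescent

/-!
# Decomposition of points over the punctured completion
-/

set_option autoImplicit false
set_option linter.style.haveILetI false
set_option backward.isDefEq.respectTransparency false
set_option backward.isDefEq.respectTransparency.types false

universe u

open CategoryTheory CategoryTheory.Limits MonoidalCategory CartesianMonoidalCategory MonObj AlgebraicGeometry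

noncomputable section

namespace Groth.Agent.BLTorsH7

variable {R : Type u} [CommRing R] (r : R) (C : Type u) [CommRing C] [Algebra R C]

/-- `D(r)` and the second member cover. -/
theorem member_mem_fpqc [Module.Flat R C] (χ : C →ₐ[R] R ⧸ Ideal.span {r}) :
    Presieve.ofArrows (mV r C) (mf r C) ∈ Scheme.fpqcPrecoverage (Spec (CommRingCat.of R)) := by
  have hprop : ∀ i, Flat (mf r C i) ∧ QuasiCompact (mf r C i) := fun ⟨i⟩ => by
    cases i
    · haveI : Flat (sp (R := R) C).hom := flat_sp C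
      exact ⟨this, by show QuasiCompact (Spec.map _); infer_instance⟩
    · haveI : Module.Flat R (Localization.Away r) := IsLocalization.flat _ (Submonoid.powers r)
      exact ⟨flat_sp (Localization.Away r), by show QuasiCompact (Spec.map _); infer_instance⟩
  have hsurj : ∀ p : Spec (CommRingCat.of R), ∃ i, p ∈ Set.range (mf r C i) := by
    intro p
    by_cases hp : r ∈ p.asIdeal
    · have hI : Ideal.span {r} ≤ p.asIdeal := (Ideal.span_singleton_le_iff_mem p.asIdeal).2 hp
      obtain ⟨q, hq⟩ : p ∈ Set.range (PrimeSpectrum.comap (Ideal.Quotient.mk (Ideal.span {r}))) := by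
        rw [range_comap_of_surjective _ _ Ideal.Quotient.mk_surjective, Ideal.mk_ker]
        exact hI
      refine ⟨⟨false⟩, PrimeSpectrum.comap χ.toRingHom q, ?_⟩
      show PrimeSpectrum.comap (algebraMap R C) (PrimeSpectrum.comap χ.toRingHom q) = p
      refine ((PrimeSpectrum.comap_comp_apply _ _ q).symm.trans ?_).trans hq
      exact congrArg (fun k => PrimeSpectrum.comap k q) χ.comp_algebraMap
    · refine ⟨⟨true⟩, ?_⟩
      have h : p ∈ Set.range (PrimeSpectrum.comap (algebraMap R (Localization.Away r))) := by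
        rw [PrimeSpectrum.localization_away_comap_range (Localization.Away r) r]
        exact hp
      exact h
  have hm : Presieve.ofArrows (mV r C) (mf r C) ∈ Scheme.precoverage @Flat (Spec (CommRingCat.of R)) :=
    (Scheme.ofArrows_mem_precoverage_iff _).2 ⟨hsurj, fun i => (hprop i).1⟩
  let E : PreZeroHypercover.{u} (Spec (CommRingCat.of R)) := ⟨ULift.{u} Bool, mV r C, mf r C⟩
  let 𝒰 : Scheme.Cover.{u} (Scheme.precoverage @Flat) (Spec (CommRingCat.of R)) := ⟨E, hm⟩
  haveI : ∀ i, QuasiCompact (𝒰.f i) := fun i => (hprop i).2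
  haveI : Finite 𝒰.I₀ := inferInstanceAs (Finite (ULift.{u} Bool))
  exact ⟨(Scheme.presieve₀_mem_qcPrecoverage_iff (E := E)).2 (QuasiCompactCover.of_finite (𝒰 := 𝒰)), hm⟩

variable {G : Over (Spec (CommRingCat.of R))} [GrpObj G]

/-- Smooth affine group schemes: a point over the punctured completion decomposes when torsors with a
generic point have sections. -/
theorem exists_decomposition [IsDomain R] (hr : r ≠ 0) [Module.Flat R C] [IsAffineHom G.hom] [Smooth G.hom]
    (hC : ∀ (c : C) (n : ℕ), ∃ a : R, algebraMap R C r ^ n ∣ c - algebraMap R C a)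
    (χ : C →ₐ[R] R ⧸ Ideal.span {r})
    (hGS : ∀ (X : Over (Spec (CommRingCat.of R))) (a : AlgGrp.Action G X),
      NonAbH1.IsTorsorFor Scheme.fppfPrecoverage a →
      NonAbH1.HasSectionOver X (Spec.map (CommRingCat.ofHom (algebraMap R (FractionRing R)))) →
      NonAbH1.HasSectionOver X (𝟙 (Spec (CommRingCat.of R))))
    (gO : sp (R := R) (Cr r C) ⟶ G) :
    ∃ (g₁ : sp (R := R) (Localization.Away r) ⟶ G) (g₂ : sp (R := R) C ⟶ G),
      gO = (spHom (IsScalarTower.toAlgHom R C (Cr r C)) ≫ g₂) * (spHom (locMap r C) ≫ g₁) := by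
  have hr' : r ∈ nonZeroDivisors R := mem_nonZeroDivisors_of_ne_zero hr
  obtain ⟨gP, hgP⟩ := exists_pairing r C gO
  obtain ⟨Z, hZ⟩ := exists_cocycle r C hr' hC (gP := gP)
  have hf := member_mem_fpqc r C χ
  obtain ⟨U⟩ := PushTors19.exists_twisted Z hf
  obtain ⟨a, ha, -⟩ := PushTors19.exists_torsor U hf
  haveI hsm : Smooth U.U.hom :=
    TorsorSch25.prop_of_isTorsorFor (P := @Smooth) ha (inferInstance : Smooth G.hom)
  have hpt : ∀ i, ∃ y : member r C i ⟶ U.U, U.coord (𝟙 (Over.mk (mf r C i))) y = 1 := fun i =>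
    (U.coord_bij (𝟙 (Over.mk (mf r C i)))).2 1
  haveI : Surjective U.U.hom := ⟨fun p => by
    obtain ⟨i, q, hq⟩ := ((Scheme.ofArrows_mem_precoverage_iff _).1 hf.2).1 p
    obtain ⟨y, -⟩ := hpt i
    exact ⟨y.left q, by rw [← Scheme.Hom.comp_apply, Over.w y]; exact hq⟩⟩
  have hE : NonAbH1.IsTorsorFor Scheme.fppfPrecoverage a := by
    refine ⟨ha.1, Presieve.singleton U.U.hom, ?_, fun S' f hf' => ?_⟩
    · exact (Scheme.singleton_mem_precoverage_iff _ U.U.hom).2 ⟨U.U.hom.surjective, inferInstance, inferInstance⟩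
    · cases hf'
      exact ⟨𝟙 _, Category.id_comp _⟩
  have hK : NonAbH1.HasSectionOver U.U (Spec.map (CommRingCat.ofHom (algebraMap R (FractionRing R)))) := by
    let χK : Localization.Away r →ₐ[R] FractionRing R :=
      IsLocalization.liftAlgHom (M := Submonoid.powers r) (f := Algebra.ofId R (FractionRing R)) (by
        rintro ⟨_, n, rfl⟩
        rw [Algebra.ofId_apply, map_pow]
        exact (IsUnit.mk0 _ ((map_ne_zero_iff _ (IsFractionRing.injective R (FractionRing R))).2 hr)).pow n)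
    obtain ⟨y, -⟩ := hpt ⟨true⟩
    exact ⟨(spHom χK ≫ y).left, Over.w (spHom χK ≫ y)⟩
  obtain ⟨s, hs⟩ := hGS U.U a hE hK
  let y : ∀ {T : Over (Spec (CommRingCat.of R))}, T ⟶ U.U := fun {T} =>
    Over.homMk (T.hom ≫ s) (by rw [Category.assoc, hs, Category.comp_id])
  have hy : ∀ {T T' : Over (Spec (CommRingCat.of R))} (b : T' ⟶ T), b ≫ (y : T ⟶ U.U) = y := fun b =>
    Over.OverMorphism.ext ((Category.assoc _ _ _).symm.trans (congrArg (· ≫ s) (Over.w b)))
  let hf' : sp (R := R) C ⟶ G := U.coord (i := ⟨false⟩) (𝟙 (sp C)) y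
  let ht : sp (R := R) (Localization.Away r) ⟶ G := U.coord (i := ⟨true⟩) (𝟙 (sp (Localization.Away r))) y
  refine ⟨ht, hf'⁻¹, ?_⟩
  let x : sp (R := R) (Cr r C) ⟶ sp C := spHom (IsScalarTower.toAlgHom R C (Cr r C))
  let d : sp (R := R) (Cr r C) ⟶ sp (Localization.Away r) := spHom (locMap r C)
  have e1 : U.coord (i := ⟨false⟩) x y = x ≫ hf' := by
    refine Eq.trans ?_ (U.coord_nat (i := ⟨false⟩) x (𝟙 (sp C)) y)
    rw [hy]; exact congrArg (fun z => U.coord (i := ⟨false⟩) z y) (Category.comp_id x).symm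
  have e2 : U.coord (i := ⟨true⟩) d y = d ≫ ht := by
    refine Eq.trans ?_ (U.coord_nat (i := ⟨true⟩) d (𝟙 (sp (Localization.Away r))) y)
    rw [hy]; exact congrArg (fun z => U.coord (i := ⟨true⟩) z y) (Category.comp_id d).symm
  have e3 : Z.c (i := ⟨false⟩) (j := ⟨true⟩) x d = gO := by
    refine (hZ (i := ⟨false⟩) (j := ⟨true⟩) x d d).trans ?_
    show (lift x d ≫ gP) * (1 : _ ⟶ G)⁻¹ = gO
    rw [inv_one, _root_.mul_one, hgP x d rfl]
  have := U.coord_change (i := ⟨false⟩) (j := ⟨true⟩) x d y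
  rw [e1, e2, e3] at this
  rw [GrpObj.comp_inv, this, inv_mul_cancel_left]

end Groth.Agent.BLTorsH7
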