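import Mathlib.AlgebraicGeometry.Morphisms.Flat
import Mathlib.AlgebraicGeometry.Pullbacks
import Mathlib.CategoryTheory.Monoidal.Cartesian.Over
import Mathlib.RingTheory.Localization.BaseChange
import Mathlib.RingTheory.Flat.TorsionFree

/-!
# Points of affine schemes over affine schemes over an affine base
-/

set_option autoImplicit false
set_option linter.style.haveILetI false
set_option backward.isDefEq.respectTransparency false
set_option backward.isDefEq.respectTransparency.types false

universe u

open CategoryTheory CategoryTheory.Limits MonoidalCategory CartesianMonoidalCategory AlgebraicGeometry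

noncomputable section

namespace Groth.Agent.BLTorsH7

variable {R : Type u} [CommRing R]

/-- The spectrum of an algebra, over the base. -/
abbrev sp (B : Type u) [CommRing B] [Algebra R B] : Over (Spec (CommRingCat.of R)) :=
  Over.mk (Spec.map (CommRingCat.ofHom (algebraMap R B)))

/-- The morphism of spectra of a map of algebras. -/
def spHom {A B : Type u} [CommRing A] [Algebra R A] [CommRing B] [Algebra R B] (φ : A →ₐ[R] B) :
    sp (R := R) B ⟶ sp (R := R) A :=
  Over.homMk (Spec.map (CommRingCat.ofHom φ.toRingHom)) (by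
    show Spec.map _ ≫ Spec.map _ = Spec.map _
    rw [← Spec.map_comp]
    exact congrArg Spec.map (CommRingCat.hom_ext φ.comp_algebraMap))

theorem spHom_comp {A B C : Type u} [CommRing A] [Algebra R A] [CommRing B] [Algebra R B] [CommRing C]
    [Algebra R C] (φ : A →ₐ[R] B) (ψ : B →ₐ[R] C) : spHom ψ ≫ spHom φ = spHom (ψ.comp φ) :=
  Over.OverMorphism.ext (show Spec.map _ ≫ Spec.map _ = Spec.map _ by rw [← Spec.map_comp]; rfl)

theorem spHom_id {A : Type u} [CommRing A] [Algebra R A] : spHom (AlgHom.id R A) = 𝟙 (sp (R := R) A) :=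
  Over.OverMorphism.ext (Spec.map_id _)

variable {A B P : Type u} [CommRing A] [Algebra R A] [CommRing B] [Algebra R B] [CommRing P] [Algebra R P]

theorem isPullback_sp [Algebra A P] [Algebra B P] [IsScalarTower R A P] [IsScalarTower R B P]
    [Algebra.IsPushout R A B P] :
    IsPullback (Spec.map (CommRingCat.ofHom (algebraMap A P))) (Spec.map (CommRingCat.ofHom (algebraMap B P)))
      (sp (R := R) A).hom (sp (R := R) B).hom :=
  isPullback_SpecMap_of_isPushout _ _ _ _ (CommRingCat.isPushout_iff_isPushout.2 ‹_›)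

/-- A pair of points of two algebras is a point of their pushout. -/
theorem existsUnique_pair [Algebra A P] [Algebra B P] [IsScalarTower R A P] [IsScalarTower R B P]
    [Algebra.IsPushout R A B P] {T : Over (Spec (CommRingCat.of R))} (x : T ⟶ sp A) (y : T ⟶ sp B) :
    ∃! z : T ⟶ sp P, z ≫ spHom (IsScalarTower.toAlgHom R A P) = x ∧ z ≫ spHom (IsScalarTower.toAlgHom R B P) = y := by
  have h := isPullback_sp (R := R) (A := A) (B := B) (P := P)
  let l := h.lift x.left y.left ((Over.w x).trans (Over.w y).symm)
  have hl : l ≫ (sp (R := R) P).hom = T.hom := by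
    show l ≫ Spec.map (CommRingCat.ofHom (algebraMap R P)) = T.hom
    rw [IsScalarTower.algebraMap_eq R A P, CommRingCat.ofHom_comp, Spec.map_comp, ← Category.assoc]
    exact (congrArg (· ≫ Spec.map _) (h.lift_fst _ _ _)).trans (Over.w x)
  refine ⟨Over.homMk l hl, ⟨Over.OverMorphism.ext (h.lift_fst _ _ _), Over.OverMorphism.ext (h.lift_snd _ _ _)⟩, ?_⟩
  rintro z ⟨h1, h2⟩
  refine Over.OverMorphism.ext (h.hom_ext ?_ ?_)
  · exact (congrArg CommaMorphism.left h1).trans (h.lift_fst _ _ _).symm
  · exact (congrArg CommaMorphism.left h2).trans (h.lift_snd _ _ _).symm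

/-- A pair of points of two algebras is a point of their tensor product. -/
theorem existsUnique_pair_tensor {T : Over (Spec (CommRingCat.of R))} (x : T ⟶ sp A) (y : T ⟶ sp B) :
    ∃! z : T ⟶ sp (TensorProduct R A B), z ≫ spHom Algebra.TensorProduct.includeLeft = x ∧
      z ≫ spHom Algebra.TensorProduct.includeRight = y := by
  have h : IsPullback (Spec.map (CommRingCat.ofHom (Algebra.TensorProduct.includeLeftRingHom (R := R) (A := A) (B := B))))
      (Spec.map (CommRingCat.ofHom (Algebra.TensorProduct.includeRight (R := R) (A := A) (B := B)).toRingHom))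
      (sp (R := R) A).hom (sp (R := R) B).hom :=
    isPullback_SpecMap_of_isPushout _ _ _ _ (CommRingCat.isPushout_tensorProduct R A B)
  let l := h.lift x.left y.left ((Over.w x).trans (Over.w y).symm)
  have hl : l ≫ (sp (R := R) (TensorProduct R A B)).hom = T.hom := by
    show l ≫ Spec.map (CommRingCat.ofHom (algebraMap R (TensorProduct R A B))) = T.hom
    rw [show algebraMap R (TensorProduct R A B) = (Algebra.TensorProduct.includeLeftRingHom (R := R)).comp (algebraMap R A)
      from rfl, CommRingCat.ofHom_comp, Spec.map_comp, ← Category.assoc]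
    exact (congrArg (· ≫ Spec.map _) (h.lift_fst _ _ _)).trans (Over.w x)
  refine ⟨Over.homMk l hl, ⟨Over.OverMorphism.ext (h.lift_fst _ _ _), Over.OverMorphism.ext (h.lift_snd _ _ _)⟩, ?_⟩
  rintro z ⟨h1, h2⟩
  refine Over.OverMorphism.ext (h.hom_ext ?_ ?_)
  · exact (congrArg CommaMorphism.left h1).trans (h.lift_fst _ _ _).symm
  · exact (congrArg CommaMorphism.left h2).trans (h.lift_snd _ _ _).symm

/-- An affine scheme over an affine base is the spectrum of an algebra. -/
theorem exists_iso_sp (T : Over (Spec (CommRingCat.of R))) [IsAffineHom T.hom] [Flat T.hom] :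
    ∃ (B : Type u) (_ : CommRing B) (_ : Algebra R B), Module.Flat R B ∧ Nonempty (T ≅ sp B) := by
  haveI : IsAffine T.left := isAffine_of_isAffineHom T.hom
  let ψ := Spec.preimage (T.left.isoSpec.inv ≫ T.hom)
  have hψ : Spec.map ψ = T.left.isoSpec.inv ≫ T.hom := Spec.map_preimage _
  letI : Algebra R Γ(T.left, ⊤) := ψ.hom.toAlgebra
  refine ⟨Γ(T.left, ⊤), inferInstance, inferInstance, ?_, ⟨Over.isoMk T.left.isoSpec ?_⟩⟩
  · have : Flat (Spec.map ψ) := by rw [hψ]; infer_instance
    have h := (HasRingHomProperty.Spec_iff (P := @Flat)).1 this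
    exact h
  · show T.left.isoSpec.hom ≫ Spec.map ψ = T.hom
    rw [hψ, Iso.hom_inv_id_assoc]

theorem mono_sp_localization (r : R) : Mono (sp (R := R) (Localization.Away r)).hom := by
  show Mono (Spec.map _)
  infer_instance

theorem subsingleton_toLoc (r : R) (T : Over (Spec (CommRingCat.of R))) :
    Subsingleton (T ⟶ sp (Localization.Away r)) := by
  refine ⟨fun a b => Over.OverMorphism.ext ?_⟩
  haveI := mono_sp_localization r
  rw [← cancel_mono (sp (R := R) (Localization.Away r)).hom]
  exact (Over.w a).trans (Over.w b).symm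

/-- Restriction to `D(r)` is injective on points of an affine scheme with values in flat affine schemes. -/
theorem eq_of_fst_comp_eq {r : R} (hr : r ∈ nonZeroDivisors R) (T G : Over (Spec (CommRingCat.of R)))
    [IsAffineHom T.hom] [Flat T.hom] [IsAffineHom G.hom] {a b : T ⟶ G}
    (h : fst T (sp (Localization.Away r)) ≫ a = fst T (sp (Localization.Away r)) ≫ b) : a = b := by
  obtain ⟨B, _, _, hB, ⟨e⟩⟩ := exists_iso_sp T
  haveI := hB
  let Br := Localization.Away (algebraMap R B r)
  let ρ : sp (R := R) Br ⟶ sp B := spHom (IsScalarTower.toAlgHom R B Br)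
  let d : sp (R := R) Br ⟶ sp (Localization.Away r) := spHom
    (IsLocalization.liftAlgHom (M := Submonoid.powers r) (f := Algebra.ofId R Br) (by
      rintro ⟨_, n, rfl⟩
      rw [Algebra.ofId_apply, map_pow, IsScalarTower.algebraMap_apply R B Br]
      exact (IsLocalization.Away.algebraMap_isUnit (S := Br) (algebraMap R B r)).pow n))
  have h1 : ρ ≫ e.inv ≫ a = ρ ≫ e.inv ≫ b := by
    have := congrArg (fun q => lift (ρ ≫ e.inv) d ≫ q) h
    simpa only [lift_fst_assoc, Category.assoc] using this
  rw [← cancel_epi e.inv]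
  refine Over.OverMorphism.ext ?_
  haveI : IsAffine G.left := isAffine_of_isAffineHom G.hom
  rw [← cancel_mono G.left.isoSpec.hom]
  obtain ⟨α, hα⟩ : ∃ α, Spec.map α = (e.inv ≫ a).left ≫ G.left.isoSpec.hom := ⟨_, Spec.map_preimage _⟩
  obtain ⟨β, hβ⟩ : ∃ β, Spec.map β = (e.inv ≫ b).left ≫ G.left.isoSpec.hom := ⟨_, Spec.map_preimage _⟩
  rw [← hα, ← hβ]
  have h3 : ρ.left ≫ (e.inv ≫ a).left = ρ.left ≫ (e.inv ≫ b).left := by
    rw [← Over.comp_left, ← Over.comp_left, h1]
  have hρ : ρ.left = Spec.map (CommRingCat.ofHom (algebraMap B Br)) := rfl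
  have h2 : α ≫ CommRingCat.ofHom (algebraMap B Br) = β ≫ CommRingCat.ofHom (algebraMap B Br) := by
    apply Spec.map_injective
    rw [Spec.map_comp, Spec.map_comp, hα, hβ, ← hρ, reassoc_of% h3]
  have hinj : Function.Injective (algebraMap B Br) := by
    refine IsLocalization.injective Br (M := Submonoid.powers (algebraMap R B r)) (Submonoid.powers_le.2 ?_)
    have hreg : IsSMulRegular B r := Module.Flat.isSMulRegular_of_nonZeroDivisors hr
    exact mem_nonZeroDivisors_iff_right.2 fun x hx => hreg (show r • x = r • (0 : B) by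
      rw [Algebra.smul_def, smul_zero, mul_comm, hx])
  exact congrArg Spec.map (CommRingCat.hom_ext (RingHom.ext fun x => hinj (congr($h2 x))))

instance isAffineHom_tensor (X Y : Over (Spec (CommRingCat.of R))) [IsAffineHom X.hom] [IsAffineHom Y.hom] :
    IsAffineHom (X ⊗ Y).hom := by
  exact MorphismProperty.comp_mem @IsAffineHom _ _ (MorphismProperty.pullback_fst X.hom Y.hom ‹_›) ‹IsAffineHom X.hom›

instance flat_tensor (X Y : Over (Spec (CommRingCat.of R))) [Flat X.hom] [Flat Y.hom] :
    Flat (X ⊗ Y).hom := by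
  show Flat (pullback.fst X.hom Y.hom ≫ X.hom)
  infer_instance

instance flat_sp (B : Type u) [CommRing B] [Algebra R B] [Module.Flat R B] : Flat (sp (R := R) B).hom :=
  (HasRingHomProperty.Spec_iff (P := @Flat)).2 (RingHom.flat_algebraMap_iff.2 ‹_›)

instance isAffineHom_sp (B : Type u) [CommRing B] [Algebra R B] : IsAffineHom (sp (R := R) B).hom := by
  show IsAffineHom (Spec.map _)
  infer_instance

end Groth.Agent.BLTorsH7
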